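import Groth.Prelude.Def_BigSite
import Mathlib.CategoryTheory.Limits.Shapes.Pullback.IsPullback.Basic

/-!
# Base change for the big sites
-/

set_option autoImplicit false
set_option linter.style.haveILetI false
set_option backward.isDefEq.respectTransparency false
set_option backward.isDefEq.respectTransparency.types false
universe v' u' u

open CategoryTheory CategoryTheory.Limits AlgebraicGeometry Opposite

namespace BigBCLib

variable {S T S' T' : Scheme.{u}} {f : T ⟶ S} {g : S' ⟶ S} {g' : T' ⟶ T} {f' : T' ⟶ S'}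

/-- For a cartesian square, base change commutes with composition. -/
noncomputable def mapPullbackIso (hsq : IsPullback g' f' f g) :
    Over.map g ⋙ Over.pullback f ≅ Over.pullback f' ⋙ Over.map g' :=
  (NatIso.ofComponents (fun U => Over.isoMk
    (((IsPullback.of_hasPullback U.hom f').flip.paste_horiz hsq).flip.isoPullback)
    ((((IsPullback.of_hasPullback U.hom f').flip.paste_horiz hsq).flip.isoPullback_hom_snd)))
    (fun {U V} φ => by
      ext
      refine pullback.hom_ext ?_ ?_ <;> simp)).symm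

/-- Precomposition with isomorphic functors gives isomorphic functors on sheaves. -/
noncomputable def pushIso {C D : Type*} [Category C] [Category D] {J : GrothendieckTopology C}
    {K : GrothendieckTopology D} (A : Type u') [Category.{v'} A] {F G : C ⥤ D} (e : F ≅ G)
    (Φ Ψ : Sheaf K A ⥤ Sheaf J A)
    (hΦ : Φ ⋙ sheafToPresheaf J A ≅ sheafToPresheaf K A ⋙ (Functor.whiskeringLeft _ _ _).obj F.op)
    (hΨ : Ψ ⋙ sheafToPresheaf J A ≅ sheafToPresheaf K A ⋙ (Functor.whiskeringLeft _ _ _).obj G.op) :
    Φ ≅ Ψ :=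
  ((fullyFaithfulSheafToPresheaf J A).whiskeringRight _).preimageIso
    (hΦ ≪≫ Functor.isoWhiskerLeft _ ((Functor.whiskeringLeft _ _ _).mapIso (NatIso.op e.symm)) ≪≫ hΨ.symm)

theorem nonempty_pushBig_pullBig (K : Precoverage Scheme.{u})
    (A : Type u') [Category.{v'} A] (hsq : IsPullback g' f' f g) :
    Nonempty (BigSite.pushBig K f A ⋙ BigSite.pullBig K g A ≅
      BigSite.pullBig K g' A ⋙ BigSite.pushBig K f' A) :=
  ⟨pushIso A (mapPullbackIso hsq) _ _ (Iso.refl _) (Iso.refl _)⟩

theorem nonempty_pushBig_resEtAlong (hsq : IsPullback g' f' f g) [EtCoh.BCCont f'] :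
    Nonempty (BigSite.pushBig Scheme.etalePrecoverage f AddCommGrpCat.{u + 1} ⋙
        BigSite.resEtAlong Scheme.etalePrecoverage g ≅
      BigSite.resEtAlong Scheme.etalePrecoverage g' ⋙ EtCoh.push f') :=
  ⟨pushIso AddCommGrpCat.{u + 1}
    (show EtFppf.a S' ⋙ Over.map g ⋙ Over.pullback f ≅ EtCoh.bc f' ⋙ EtFppf.a T' ⋙ Over.map g' from
      Functor.isoWhiskerLeft _ (mapPullbackIso hsq) ≪≫
        Functor.isoWhiskerRight (MorphismProperty.Over.pullbackCompForgetIso (P := EtCoh.etaleMP) (Q := ⊤) f').symm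
          (Over.map g'))
    _ _ (Iso.refl _) (Iso.refl _)⟩

/-- For a monomorphism the counit is an isomorphism. -/
theorem isIso_bigAdj_counit {X Y : Scheme.{u}} (f : X ⟶ Y) [Mono f] (K : Precoverage Scheme.{u})
    (A : Type u') [Category.{v'} A] (F : Sheaf (QuotSh.J K X) A) :
    IsIso ((BigSite.bigAdj K f A).counit.app F) := by
  haveI : (Over.map f).Full := ⟨fun {U V} φ => ⟨Over.homMk φ.left ((cancel_mono f).1 (by
    simpa using Over.w φ)), rfl⟩⟩
  haveI : (Over.map f).Faithful := ⟨fun {U V} φ ψ h => Over.OverMorphism.ext (by simpa using congrArg (fun q => q.left) h)⟩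
  haveI : ∀ U : (Over X)ᵒᵖ, IsIso (((BigSite.bigAdj K f A).counit.app F).hom.app U) := fun U => by
    have h : IsIso (F.obj.map ((Over.mapPullbackAdj f).unit.app U.unop).op) := inferInstance
    simpa [Adjunction.sheafPushforwardContinuous] using h
  haveI : IsIso ((sheafToPresheaf _ _).map ((BigSite.bigAdj K f A).counit.app F)) :=
    @NatIso.isIso_of_isIso_app _ _ _ _ _ _ _ (fun U => this U)
  exact isIso_of_reflects_iso _ (sheafToPresheaf (QuotSh.J K X) A)

end BigBCLib
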